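import Cfsg.Agent.Lib.Transfer.Fusion
import Mathlib.GroupTheory.Transfer
import Mathlib.GroupTheory.Solvable

/-!
# Groups in which every non-abelian subgroup is its own normalizer
-/

set_option autoImplicit false
set_option linter.style.haveILetI false
set_option linter.unusedSectionVars false

namespace Cfsg.Agent.SelfNorm

open Subgroup Cfsg

universe u

/-- Elementwise commutativity of a subgroup. -/
def Ab {X : Type u} [Group X] (H : Subgroup X) : Prop := ∀ a ∈ H, ∀ b ∈ H, a * b = b * a

/-- Every non-abelian subgroup is self-normalizing. -/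
def SN (X : Type u) [Group X] : Prop :=
  ∀ H : Subgroup X, ¬ Ab H → normalizer (H : Set X) = H

variable {X : Type u} [Group X]

theorem ab_iff {H : Subgroup X} : Ab H ↔ IsMulCommutative H :=
  ⟨fun h => ⟨⟨fun a b => Subtype.ext (h a a.2 b b.2)⟩⟩,
    fun h a ha b hb => congrArg Subtype.val (h.is_comm.comm ⟨a, ha⟩ ⟨b, hb⟩)⟩

theorem Ab.mono {H K : Subgroup X} (h : Ab K) (hle : H ≤ K) : Ab H :=
  fun a ha b hb => h a (hle ha) b (hle hb)

theorem ab_of_map {Y : Type*} [Group Y] {f : X →* Y} (hf : Function.Injective f) {H : Subgroup X}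
    (h : ∀ a ∈ H.map f, ∀ b ∈ H.map f, a * b = b * a) : Ab H :=
  fun a ha b hb => hf (by rw [map_mul, map_mul]; exact h _ ⟨a, ha, rfl⟩ _ ⟨b, hb, rfl⟩)

theorem sn_sub (h : SN X) (K : Subgroup X) : SN K := by
  intro H hH
  have hn := h (H.map K.subtype) fun hc => hH (ab_of_map K.subtype_injective hc)
  refine le_antisymm (fun g hg => ?_) le_normalizer
  have hmem : (g : X) ∈ normalizer ((H.map K.subtype : Subgroup X) : Set X) := by
    refine mem_normalizer_iff.2 fun x => ⟨?_, ?_⟩
    · rintro ⟨a, ha, rfl⟩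
      exact ⟨g * a * g⁻¹, (mem_normalizer_iff.1 hg a).1 ha, rfl⟩
    · rintro ⟨a, ha, hax⟩
      refine ⟨g⁻¹ * a * g, (mem_normalizer_iff''.1 hg a).1 ha, ?_⟩
      change ((g : X))⁻¹ * (a : X) * g = x
      rw [show (a : X) = g * x * (g : X)⁻¹ from hax]
      group
  rw [hn] at hmem
  obtain ⟨a, ha, he⟩ := hmem
  exact (K.subtype_injective he) ▸ ha

theorem sn_quot (h : SN X) (N : Subgroup X) [N.Normal] : SN (X ⧸ N) := by
  intro H hH
  have hn := h (H.comap (QuotientGroup.mk' N)) fun hc => hH fun a ha b hb => by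
    obtain ⟨a, rfl⟩ := QuotientGroup.mk'_surjective N a
    obtain ⟨b, rfl⟩ := QuotientGroup.mk'_surjective N b
    rw [← map_mul, ← map_mul, hc a ha b hb]
  refine le_antisymm (fun g hg => ?_) le_normalizer
  obtain ⟨g, rfl⟩ := QuotientGroup.mk'_surjective N g
  have hmem : g ∈ normalizer ((H.comap (QuotientGroup.mk' N) : Subgroup X) : Set X) := by
    refine mem_normalizer_iff.2 fun x => ?_
    rw [mem_comap, mem_comap, map_mul, map_mul, map_inv]
    exact mem_normalizer_iff.1 hg _
  rw [hn] at hmem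
  exact hmem

/-- A proper normal subgroup is abelian. -/
theorem ab_of_normal (h : SN X) {N : Subgroup X} (hN : N.Normal) (hne : N ≠ ⊤) : Ab N := by
  by_contra hc
  haveI := hN
  exact hne (by rw [← h N hc]; exact normalizer_eq_top N)

/-- A subgroup normalized by a strictly larger one is abelian. -/
theorem ab_of_le_normalizer (h : SN X) {K H : Subgroup X} (hlt : ¬ H ≤ K)
    (hn : H ≤ normalizer (K : Set X)) : Ab K := by
  by_contra hc
  exact hlt (hn.trans (h K hc).le)

variable [Finite X]

open scoped IsMulCommutative in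
/-- Taunt: an element of an abelian Sylow subgroup central in its normalizer and lying in the
derived subgroup is trivial. -/
theorem eq_one_of_central {p : ℕ} [Fact p.Prime] (P : Sylow p X) (hP : Ab (P : Subgroup X))
    {x : X} (hx : x ∈ P) (hfix : ∀ n ∈ normalizer (P : Set X), n * x = x * n)
    (hd : x ∈ commutator X) : x = 1 := by
  haveI : IsMulCommutative (P : Subgroup X) := ab_iff.1 hP
  have key : ∀ (k : ℕ) (g₀ : X), g₀⁻¹ * x ^ k * g₀ ∈ (P : Subgroup X) →
      g₀⁻¹ * x ^ k * g₀ = x ^ k := by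
    intro k g₀ hy
    obtain ⟨n, hn, he⟩ := P.conj_eq_normalizer_conj_of_mem (x ^ k) g₀ (P.pow_mem hx k) hy
    rw [he, mul_assoc, ← (Commute.pow_right (hfix n hn) k).eq, inv_mul_cancel_left]
  have h1 := MonoidHom.transfer_eq_pow (MonoidHom.id (P : Subgroup X)) x key
  have h2 : MonoidHom.transfer (MonoidHom.id (P : Subgroup X)) x = 1 :=
    MonoidHom.mem_ker.1 (Abelianization.commutator_subset_ker _ hd)
  rw [h1] at h2
  have h3 : x ^ (P : Subgroup X).index = 1 := congrArg Subtype.val h2
  obtain ⟨k, hk⟩ := IsPGroup.iff_orderOf.1 P.isPGroup' ⟨x, hx⟩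
  rw [Subgroup.orderOf_mk] at hk
  refine orderOf_eq_one_iff.1 (Nat.eq_one_of_dvd_coprimes ?_ dvd_rfl (orderOf_dvd_of_pow_eq_one h3))
  rw [hk]
  exact ((Nat.Prime.coprime_iff_not_dvd Fact.out).2 P.not_dvd_index).pow_left k

/-- The normalizer of an abelian Sylow subgroup of a quotient by a self-centralizing abelian
normal subgroup centralizes it. -/
theorem quot_norm_le_cent (h : SN X) (C : Subgroup X) [C.Normal]
    (hCC : centralizer (C : Set X) ≤ C) {p : ℕ} [Fact p.Prime] (P : Sylow p (X ⧸ C))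
    (hP : Ab (P : Subgroup (X ⧸ C))) :
    normalizer (P : Set (X ⧸ C)) ≤ centralizer (P : Set (X ⧸ C)) := by
  intro g hg y hy
  by_cases hY : Ab ((P : Subgroup (X ⧸ C)).comap (QuotientGroup.mk' C))
  · -- then `P` is trivial
    have hle : (P : Subgroup (X ⧸ C)).comap (QuotientGroup.mk' C) ≤ C := by
      refine fun a ha => hCC fun c hc => hY c ?_ a ha
      rw [mem_comap, QuotientGroup.mk'_apply, (QuotientGroup.eq_one_iff c).2 hc]
      exact one_mem _
    obtain ⟨a, rfl⟩ := QuotientGroup.mk'_surjective C y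
    rw [QuotientGroup.mk'_apply, (QuotientGroup.eq_one_iff a).2 (hle hy), one_mul, mul_one]
  · obtain ⟨g', rfl⟩ := QuotientGroup.mk'_surjective C g
    have hmem : g' ∈ normalizer
        (((P : Subgroup (X ⧸ C)).comap (QuotientGroup.mk' C) : Subgroup X) : Set X) := by
      refine mem_normalizer_iff.2 fun x => ?_
      rw [mem_comap, mem_comap, map_mul, map_mul, map_inv]
      exact mem_normalizer_iff.1 hg _
    rw [h _ hY] at hmem
    exact hP y hy _ hmem

/-- A non-abelian Sylow subgroup forces a normal complement. -/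
theorem npc_of_nonab (p : ℕ) [Fact p.Prime] :
    ∀ (n : ℕ) (X : Type u) [Group X] [Finite X], Nat.card X = n → SN X →
      ∀ P : Sylow p X, ¬ Ab (P : Subgroup X) → Cfsg.HasNormalPComplement p X := by
  intro n
  induction n using Nat.strong_induction_on with
  | _ n ih => ?_
  intro X _ _ hn h P hP
  classical
  haveI := Fintype.ofFinite (Subgroup X)
  refine Fusion.hasNormalPComplement_of_frobenius fun D₁ hD₁ g₁ hg₁ hgo₁ => ?_
  by_contra hg₁c
  let S : Finset (Subgroup X) := Finset.univ.filter fun D => IsPGroup p D ∧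
    ∃ g ∈ normalizer (D : Set X), (orderOf g).Coprime p ∧ g ∉ centralizer (D : Set X)
  obtain ⟨D, hDS, hmax⟩ := S.exists_max_image (fun D => Nat.card D)
    ⟨D₁, Finset.mem_filter.2 ⟨Finset.mem_univ _, hD₁, g₁, hg₁, hgo₁, hg₁c⟩⟩
  obtain ⟨-, hD, g, hg, hgo, hgc⟩ := Finset.mem_filter.1 hDS
  have hDab : Ab D := by
    by_contra hc
    rw [h D hc] at hg
    obtain ⟨k, hk⟩ := IsPGroup.iff_orderOf.1 hD ⟨g, hg⟩
    rw [Subgroup.orderOf_mk] at hk
    rw [hk] at hgo
    rcases Nat.eq_zero_or_pos k with rfl | hk0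
    · rw [pow_zero, orderOf_eq_one_iff] at hk
      exact hgc (hk ▸ one_mem _)
    · exact (Fact.out : p.Prime).ne_one
        (Nat.eq_one_of_dvd_coprimes hgo (dvd_pow_self p hk0.ne') dvd_rfl)
  set N := normalizer (D : Set X) with hN
  obtain ⟨R0, hR0⟩ := (IsPGroup.comap_subtype (K := N) hD).exists_le_sylow
  set R : Subgroup X := (R0 : Subgroup N).map N.subtype with hR
  have hRp : IsPGroup p R := R0.isPGroup'.map _
  have hDR : D ≤ R := fun d hd =>
    ⟨⟨d, le_normalizer hd⟩, hR0 (mem_subgroupOf.2 hd), rfl⟩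
  have hRN : R ≤ N := map_subtype_le _
  have hRmax : ∀ Q : Subgroup X, IsPGroup p Q → R ≤ Q → Q ≤ N → Q = R := by
    intro Q hQ hRQ hQN
    have := R0.is_maximal' (IsPGroup.comap_subtype (K := N) hQ)
      fun x hx => mem_subgroupOf.2 (hRQ ⟨x, hx, rfl⟩)
    refine le_antisymm (fun x hx => ?_) hRQ
    exact ⟨⟨x, hQN hx⟩, this.le (mem_subgroupOf.2 hx), rfl⟩
  by_cases hRab : Ab R
  · -- then `D` is a Sylow subgroup, but Sylow subgroups are not abelian
    have hsyl : ∀ Q : Sylow p X, D ≤ (Q : Subgroup X) → (Q : Subgroup X) = D → False := by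
      intro Q _ e
      obtain ⟨c, hc⟩ := MulAction.exists_smul_eq X Q P
      refine hP ?_
      rw [← hc, Sylow.coe_subgroup_smul, e]
      intro a ha b hb
      rw [mem_pointwise_smul_iff_inv_smul_mem] at ha hb
      have h1 := hDab _ ha _ hb
      rw [← smul_mul', ← smul_mul'] at h1
      exact smul_left_cancel _ h1
    by_cases hDR' : D = R
    · obtain ⟨Q, hQ⟩ := hD.exists_le_sylow
      refine hsyl Q hQ (le_antisymm (fun x hx => ?_) hQ)
      by_contra hxD
      obtain ⟨y, hy⟩ : ∃ y, y ∈ (Q : Subgroup X) ⊓ N ∧ y ∉ D := by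
        have hnc : D.subgroupOf (Q : Subgroup X) < ⊤ :=
          lt_top_iff_ne_top.2 fun e => hxD (subgroupOf_eq_top.1 e hx)
        haveI := Q.isPGroup'.isNilpotent
        obtain ⟨y, hy1, hy2⟩ := SetLike.exists_of_lt
          (Group.normalizerCondition_of_isNilpotent _ hnc)
        refine ⟨y, ⟨y.2, ?_⟩, fun e => hy2 (mem_subgroupOf.2 e)⟩
        refine mem_normalizer_fintype fun d hd => ?_
        exact mem_subgroupOf.1 ((mem_normalizer_iff.1 hy1 ⟨d, hQ hd⟩).1 (mem_subgroupOf.2 hd))
      have := hRmax ((Q : Subgroup X) ⊓ N) (Q.isPGroup'.to_le inf_le_left)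
        (hDR' ▸ le_inf hQ le_normalizer) inf_le_right
      exact hy.2 (hDR'.symm ▸ this ▸ hy.1)
    · -- a bigger bad subgroup, by the Frattini argument
      set Cn : Subgroup N := (centralizer (D : Set X)).subgroupOf N with hCn
      haveI : Cn.Normal := ⟨fun c hc m => by
        refine mem_subgroupOf.2 fun d hd => ?_
        have hd' : (m : X)⁻¹ * d * m ∈ D := (mem_normalizer_iff''.1 m.2 d).1 hd
        have he := mem_subgroupOf.1 hc _ hd'
        show d * ((m : X) * c * (m : X)⁻¹) = (m : X) * c * (m : X)⁻¹ * d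
        calc d * ((m : X) * c * (m : X)⁻¹) = m * ((m : X)⁻¹ * d * m * c) * (m : X)⁻¹ := by group
          _ = m * (c * ((m : X)⁻¹ * d * m)) * (m : X)⁻¹ := by rw [he]
          _ = (m : X) * c * (m : X)⁻¹ * d := by group⟩
      have hRC : (R0 : Subgroup N) ≤ Cn := fun r hr => mem_subgroupOf.2 fun d hd =>
        hRab d (hDR hd) r ⟨r, hr, rfl⟩
      obtain ⟨m, hm, c, hc, hmc⟩ : ∃ m ∈ normalizer (R0 : Set N), ∃ c ∈ Cn,
          m * c = (⟨g, hg⟩ : N) := by
        have htop := Sylow.normalizer_sup_eq_top' R0 hRC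
        have hmem : (⟨g, hg⟩ : N) ∈ normalizer (R0 : Set N) ⊔ Cn := htop ▸ mem_top _
        exact mem_sup_of_normal_right.1 hmem
      have hmc' : (m : X) ∉ centralizer (D : Set X) := fun hmC => hgc (by
        rw [show g = (m : X) * (c : X) from congrArg Subtype.val hmc.symm]
        exact mul_mem hmC (mem_subgroupOf.1 hc))
      -- the part of `m` of order prime to `p`
      obtain ⟨a, b, hb, hM⟩ :=
        Nat.exists_eq_pow_mul_and_not_dvd (orderOf_pos m).ne' p (Fact.out : p.Prime).ne_one
      have hpb : (p ^ a).Coprime b := ((Nat.Prime.coprime_iff_not_dvd Fact.out).2 hb).pow_left a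
      have hmb : m ^ b ∈ (R0 : Subgroup N) := by
        have hp : IsPGroup p (zpowers (m ^ b)) := by
          refine IsPGroup.iff_orderOf.2 fun z => ?_
          have h1 : orderOf (z : N) ∣ p ^ a := by
            obtain ⟨i, hi⟩ := mem_zpowers_iff.1 z.2
            rw [← hi]
            refine orderOf_dvd_of_pow_eq_one ?_
            rw [← zpow_natCast ((m ^ b) ^ i), zpow_comm, zpow_natCast, ← pow_mul, mul_comm b, ← hM,
              pow_orderOf_eq_one, one_zpow]
          rw [← Subgroup.orderOf_coe]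
          obtain ⟨k, -, hk⟩ := (Nat.dvd_prime_pow Fact.out).1 h1
          exact ⟨k, hk⟩
        have hle : zpowers (m ^ b) ≤ normalizer (R0 : Set N) :=
          zpowers_le.2 (pow_mem hm b)
        have heq := R0.is_maximal' (R0.isPGroup'.to_sup_of_normal_left' hp hle) le_sup_left
        exact heq.le (mem_sup_right (mem_zpowers _))
      have hn : ((m ^ p ^ a : N) : X) ∈ normalizer (R : Set X) := by
        refine mem_normalizer_fintype ?_
        rintro _ ⟨r, hr, rfl⟩
        exact ⟨_, (mem_normalizer_iff.1 (pow_mem hm (p ^ a)) r).1 hr, rfl⟩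
      have hno : (orderOf ((m ^ p ^ a : N) : X)).Coprime p := by
        refine Nat.Coprime.coprime_dvd_left ?_
          ((Nat.Prime.coprime_iff_not_dvd Fact.out).2 hb).symm
        rw [Subgroup.orderOf_coe]
        exact orderOf_dvd_of_pow_eq_one (by rw [← pow_mul, ← hM, pow_orderOf_eq_one])
      have hnc : ((m ^ p ^ a : N) : X) ∉ centralizer (R : Set X) := by
        intro hn'
        have h1 : (m : X) ^ p ^ a ∈ centralizer (D : Set X) := by
          have := centralizer_le hDR hn'
          simpa using this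
        have h2 : (m : X) ^ b ∈ centralizer (D : Set X) := by
          simpa using mem_subgroupOf.1 (hRC hmb)
        apply hmc'
        have h3 : (m : X) ^ (((p ^ a).gcd b : ℕ) : ℤ) ∈ centralizer (D : Set X) := by
          rw [Nat.gcd_eq_gcd_ab, zpow_add, zpow_mul, zpow_mul, zpow_natCast, zpow_natCast]
          exact mul_mem (zpow_mem h1 _) (zpow_mem h2 _)
        rwa [hpb.gcd_eq_one, Nat.cast_one, zpow_one] at h3
      have hmem : R ∈ S := Finset.mem_filter.2 ⟨Finset.mem_univ _, hRp, _, hn, hno, hnc⟩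
      exact hDR' (eq_of_le_of_card_ge hDR (hmax R hmem))
  · -- then `R` is a Sylow subgroup of `X`
    have hR0 : ¬ Ab (R0 : Subgroup N) := fun hc => hRab (by
      rintro _ ⟨a, ha, rfl⟩ _ ⟨b, hb, rfl⟩
      rw [← map_mul, ← map_mul, hc a ha b hb])
    by_cases hNtop : N = ⊤
    · haveI : D.Normal := normalizer_eq_top_iff.1 hNtop
      set C := centralizer (D : Set X) with hC
      have hCne : C ≠ ⊤ := fun e => hgc (e ▸ mem_top g)
      have hCab : Ab C := ab_of_normal h inferInstance hCne
      have hDC : D ≤ C := fun d hd e he => hDab e he d hd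
      have hCC : centralizer (C : Set X) ≤ C := centralizer_le hDC
      have hQ : Cfsg.HasNormalPComplement p (X ⧸ C) := by
        obtain ⟨Pq⟩ : Nonempty (Sylow p (X ⧸ C)) := inferInstance
        by_cases hPq : Ab (Pq : Subgroup (X ⧸ C))
        · exact Fusion.hasNormalPComplement_of_normalizer_le_centralizer Pq
            (quot_norm_le_cent h C hCC Pq hPq)
        · refine ih (Nat.card (X ⧸ C)) ?_ _ rfl (sn_quot h C) Pq hPq
          rw [← hn, card_eq_card_quotient_mul_card_subgroup C]
          refine lt_mul_of_one_lt_right Nat.card_pos ((Subgroup.one_lt_card_iff_ne_bot C).2 fun e => hgc ?_)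
          intro d hd
          rw [show d = 1 from mem_bot.1 (e ▸ hDC hd), one_mul, mul_one]
      obtain ⟨Pq, K, hKn, hK⟩ := hQ
      haveI := hKn
      haveI : (K.comap (QuotientGroup.mk' C)).Normal := inferInstance
      have hgK : g ∈ K.comap (QuotientGroup.mk' C) := by
        have hp : IsPGroup p ((X ⧸ C) ⧸ K) := by
          obtain ⟨k, hk⟩ := IsPGroup.iff_card.1 Pq.isPGroup'
          exact IsPGroup.of_card (n := k) (by rw [← hk, ← hK.symm.index_eq_card]; rfl)
        rw [mem_comap, ← QuotientGroup.eq_one_iff]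
        obtain ⟨k, hk⟩ := IsPGroup.iff_orderOf.1 hp (((QuotientGroup.mk' C) g : X ⧸ C) : (X ⧸ C) ⧸ K)
        refine orderOf_eq_one_iff.1 (Nat.eq_one_of_dvd_coprimes (hgo.pow_right k) ?_ (dvd_of_eq hk))
        exact orderOf_map_dvd ((QuotientGroup.mk' K).comp (QuotientGroup.mk' C)) g
      by_cases hKtop : K.comap (QuotientGroup.mk' C) = ⊤
      · -- then every Sylow subgroup lies in `C`
        refine hP (hCab.mono fun x hx => ?_)
        rw [← QuotientGroup.eq_one_iff]
        have hxK : ((QuotientGroup.mk' C) x) ∈ K := (mem_comap.1 (hKtop ▸ mem_top x))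
        refine orderOf_eq_one_iff.1 (Nat.eq_one_of_dvd_coprimes ?_
          (orderOf_dvd_natCard K hxK) dvd_rfl)
        obtain ⟨k, hk⟩ := IsPGroup.iff_orderOf.1 P.isPGroup' ⟨x, hx⟩
        rw [Subgroup.orderOf_mk] at hk
        refine Nat.Coprime.coprime_dvd_right (hk ▸ orderOf_map_dvd (QuotientGroup.mk' C) x) ?_
        rw [← hK.index_eq_card]
        refine Nat.Coprime.pow_right k (Nat.Coprime.symm ?_)
        exact (Nat.Prime.coprime_iff_not_dvd Fact.out).2 Pq.not_dvd_index
      · refine hgc fun d hd => ?_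
        refine ab_of_normal h inferInstance hKtop d ?_ g hgK
        rw [mem_comap, QuotientGroup.mk'_apply, (QuotientGroup.eq_one_iff d).2 (hDC hd)]
        exact one_mem _
    · refine hgc (Fusion.mem_centralizer_of_hasNormalPComplement hD ?_ hg hgo)
      refine ih (Nat.card N) ?_ N rfl (sn_sub h N) R0 hR0
      rw [← hn]
      exact lt_of_le_of_ne (Subgroup.card_le_card_group N) fun e => hNtop (eq_top_of_card_eq N e)

/-- A perfect group with this property has abelian Sylow subgroups. -/
theorem sylow_ab_of_perfect (h : SN X) (hperf : commutator X = ⊤) {p : ℕ} [Fact p.Prime]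
    (P : Sylow p X) : Ab (P : Subgroup X) := by
  by_contra hP
  obtain ⟨Q, K, hKn, hK⟩ := npc_of_nonab p _ X rfl h P hP
  haveI := hKn
  haveI : Group.IsNilpotent (X ⧸ K) := by
    obtain ⟨k, hk⟩ := IsPGroup.iff_card.1 Q.isPGroup'
    exact (IsPGroup.of_card (p := p) (G := X ⧸ K) (n := k)
      (by rw [← hk, ← hK.symm.index_eq_card]; rfl)).isNilpotent
  have hd : commutator (X ⧸ K) = ⊤ := by
    rw [commutator_def, ← map_top_of_surjective _ (QuotientGroup.mk'_surjective K),
      ← map_commutator, ← commutator_def, hperf]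
  rcases subsingleton_or_nontrivial (X ⧸ K) with hs | hs
  · refine hP ?_
    have hQ : (Q : Subgroup X) = ⊥ := by
      refine eq_bot_of_card_eq _ ?_
      rw [← hK.symm.index_eq_card, Subgroup.index]
      exact Nat.card_of_subsingleton (1 : X ⧸ K)
    obtain ⟨c, hc⟩ := MulAction.exists_smul_eq X Q P
    rw [← hc, Sylow.coe_subgroup_smul, hQ]
    intro a ha b hb
    rw [smul_bot, mem_bot] at ha hb
    rw [ha, hb]
  · exact (Group.IsSolvable.commutator_lt_top_of_nontrivial (X ⧸ K)).ne hd

/-- A perfect group with this property has no proper non-trivial normal subgroup. -/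
theorem eq_bot_of_perfect (h : SN X) (hperf : commutator X = ⊤) {N : Subgroup X} (hNn : N.Normal)
    (hne : N ≠ ⊤) : N = ⊥ := by
  classical
  by_contra hbot
  haveI := hNn
  have hNab := ab_of_normal h hNn hne
  set C := centralizer (N : Set X) with hC
  by_cases hCtop : C = ⊤
  · obtain ⟨p, hp, hpd⟩ := Nat.exists_prime_and_dvd
      (fun e => hbot (eq_bot_of_card_eq N e) : Nat.card N ≠ 1)
    haveI := Fact.mk hp
    obtain ⟨x, hx⟩ := exists_prime_orderOf_dvd_card' p hpd
    have hxp : IsPGroup p (zpowers (x : X)) := IsPGroup.of_card (n := 1)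
      (by rw [Nat.card_zpowers, Subgroup.orderOf_coe, hx, pow_one])
    obtain ⟨P, hP⟩ := hxp.exists_le_sylow
    have h1 := eq_one_of_central P (sylow_ab_of_perfect h hperf P) (hP (mem_zpowers _))
      (fun n _ => ((hCtop ▸ mem_top n : n ∈ C) x x.2).symm) (hperf ▸ mem_top _)
    rw [← Subgroup.orderOf_coe, h1, orderOf_one] at hx
    exact hp.ne_one hx.symm
  · have hNC : N ≤ C := fun d hd e he => hNab e he d hd
    have hCC : centralizer (C : Set X) ≤ C := centralizer_le hNC
    obtain ⟨p, hp, hpd⟩ := Nat.exists_prime_and_dvd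
      (fun e => hCtop (index_eq_one.1 e) : C.index ≠ 1)
    haveI := Fact.mk hp
    obtain ⟨P⟩ : Nonempty (Sylow p (X ⧸ C)) := inferInstance
    have hperf' : commutator (X ⧸ C) = ⊤ := by
      rw [commutator_def, ← map_top_of_surjective _ (QuotientGroup.mk'_surjective C),
        ← map_commutator, ← commutator_def, hperf]
    have hPab := sylow_ab_of_perfect (sn_quot h C) hperf' P
    have hle := quot_norm_le_cent h C hCC P hPab
    haveI : IsMulCommutative (P : Subgroup (X ⧸ C)) := ab_iff.1 hPab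
    obtain ⟨x, hx⟩ := exists_prime_orderOf_dvd_card' p (P.dvd_card_of_dvd_card hpd)
    have h1 := eq_one_of_central P hPab x.2 (fun n hn => (hle hn x x.2).symm)
      (hperf' ▸ mem_top _)
    rw [← Subgroup.orderOf_coe, h1, orderOf_one] at hx
    exact hp.ne_one hx.symm

/-- With a non-trivial normal subgroup, a non-abelian group is not perfect. -/
theorem ab_commutator (h : SN X) (hX : ¬ Ab (⊤ : Subgroup X)) {N : Subgroup X} (hNn : N.Normal)
    (hbot : N ≠ ⊥) (hne : N ≠ ⊤) : Ab (commutator X) := by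
  refine ab_of_normal h inferInstance fun e => hbot ?_
  exact eq_bot_of_perfect h e hNn hne

end Cfsg.Agent.SelfNorm
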