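import Cfsg.Agent.Lib.SelfNorm.Basic
import Mathlib.GroupTheory.SpecificGroups.Cyclic

/-!
# Simple groups with self-normalizing non-abelian subgroups have abelian centralizers
-/

set_option autoImplicit false
set_option linter.style.haveILetI false
set_option linter.unusedSectionVars false

namespace Cfsg.Agent.SelfNorm

open Subgroup Cfsg
open scoped commutatorElement

universe u

variable {G : Type u} [Group G] [Finite G]

theorem ab_top_iff {H : Subgroup G} : Ab (⊤ : Subgroup H) ↔ Ab H :=
  ⟨fun h a ha b hb => congrArg Subtype.val (h ⟨a, ha⟩ (mem_top _) ⟨b, hb⟩ (mem_top _)),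
    fun h a _ b _ => Subtype.ext (h a a.2 b b.2)⟩

/-- Subgroups containing the derived subgroup are normal. -/
theorem normal_of_commutator_le {X : Type u} [Group X] {H : Subgroup X} (h : commutator X ≤ H) :
    H.Normal := ⟨fun a ha g => by
  rw [show g * a * g⁻¹ = ⁅g, a⁆ * a by rw [commutatorElement_def]; group]
  exact mul_mem (h (commutator_mem_commutator (mem_top g) (mem_top a))) ha⟩

theorem perfect_of_simple [IsSimpleGroup G] (hna : ¬ Ab (⊤ : Subgroup G)) : commutator G = ⊤ := by
  rcases (inferInstance : (commutator G).Normal).eq_bot_or_eq_top with h | h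
  · refine absurd (fun a _ b _ => ?_) hna
    have := (h ▸ commutator_mem_commutator (mem_top a) (mem_top b) : ⁅a, b⁆ ∈ (⊥ : Subgroup G))
    rwa [mem_bot, commutatorElement_eq_one_iff_mul_comm] at this
  · exact h

theorem ab_centralizer_prime [IsSimpleGroup G] (hna : ¬ Ab (⊤ : Subgroup G)) (h : SN G) {r : ℕ}
    [Fact r.Prime] {x : G} (hx : orderOf x = r) : Ab (centralizer ({x} : Set G)) := by
  classical
  by_contra hC
  have hperf := perfect_of_simple hna
  have hx1 : x ≠ 1 := fun e => (Fact.out : r.Prime).ne_one (by rw [← hx, e, orderOf_one])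
  set H := centralizer ({x} : Set G) with hH
  have hxH : x ∈ H := mem_centralizer_singleton_iff.2 rfl
  have hxp : IsPGroup r (zpowers x) :=
    IsPGroup.of_card (n := 1) (by rw [Nat.card_zpowers, hx, pow_one])
  obtain ⟨P, hP⟩ := hxp.exists_le_sylow
  have hxP : x ∈ (P : Subgroup G) := hP (mem_zpowers x)
  have hPab := sylow_ab_of_perfect h hperf P
  have hPH : (P : Subgroup G) ≤ H := fun a ha =>
    mem_centralizer_singleton_iff.2 (hPab a ha x hxP)
  have hmove : ∃ n ∈ normalizer (P : Set G), n * x ≠ x * n := by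
    by_contra hc
    push Not at hc
    exact hx1 (eq_one_of_central P hPab hxP hc (hperf ▸ mem_top x))
  set P0 : Sylow r H := P.subtype hPH with hP0
  have hmem0 : ∀ a : H, a ∈ (P0 : Subgroup H) ↔ (a : G) ∈ (P : Subgroup G) := fun a => by
    rw [hP0, Sylow.coe_subtype, mem_subgroupOf]
  have hP0ab : Ab (P0 : Subgroup H) := fun a ha b hb =>
    Subtype.ext (hPab a ((hmem0 a).1 ha) b ((hmem0 b).1 hb))
  have hHtop : ¬ Ab (⊤ : Subgroup H) := fun e => hC (ab_top_iff.1 e)
  set x0 : H := ⟨x, hxH⟩ with hx0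
  have hZn : (zpowers x0).Normal := ⟨fun a ha g => by
    obtain ⟨i, rfl⟩ := mem_zpowers_iff.1 ha
    have : Commute g x0 := Subtype.ext (mem_centralizer_singleton_iff.1 g.2)
    rw [(this.zpow_right i).eq, mul_assoc, mul_inv_cancel, mul_one]
    exact zpow_mem (mem_zpowers x0) i⟩
  set D := commutator H with hD
  have hDab : Ab D := by
    refine ab_commutator (sn_sub h H) hHtop hZn ?_ ?_
    · exact fun e => hx1 (congrArg (fun z : H => (z : G)) (mem_bot.1 (e ▸ mem_zpowers x0 : x0 ∈ (⊥ : Subgroup H))))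
    · intro e
      refine hHtop fun a _ b _ => ?_
      obtain ⟨i, rfl⟩ := mem_zpowers_iff.1 (e ▸ mem_top a : a ∈ zpowers x0)
      obtain ⟨j, rfl⟩ := mem_zpowers_iff.1 (e ▸ mem_top b : b ∈ zpowers x0)
      rw [← zpow_add, ← zpow_add, add_comm]
  obtain ⟨n, hn, hnx⟩ := hmove
  by_cases hcase : (P0 : Subgroup H) ⊔ D = ⊤
  · -- the Sylow subgroup is cyclic
    have hint : ∀ z ∈ (P0 : Subgroup H), z ∈ D → z = 1 := by
      intro z hz hzD
      refine eq_one_of_central P0 hP0ab hz (fun m _ => ?_) hzD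
      have hle : (P0 : Subgroup H) ⊔ D ≤ centralizer ({z} : Set H) :=
        sup_le (fun a ha => mem_centralizer_singleton_iff.2 (hP0ab a ha z hz))
          (fun a ha => mem_centralizer_singleton_iff.2 (hDab a ha z hzD))
      exact mem_centralizer_singleton_iff.1 (hle (hcase ▸ mem_top m))
    obtain ⟨a, ha, d₀, hd₀, had⟩ : ∃ a ∈ (P0 : Subgroup H), ∃ d ∈ D, a * d ≠ d * a := by
      by_contra hc
      push Not at hc
      refine hHtop ?_
      rw [← hcase]
      intro u hu v hv
      obtain ⟨a, ha, d, hd, rfl⟩ := mem_sup_of_normal_right.1 hu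
      obtain ⟨b, hb, e, he, rfl⟩ := mem_sup_of_normal_right.1 hv
      have h1 : Commute a b := hP0ab a ha b hb
      have h2 : Commute d e := hDab d hd e he
      have h3 : Commute a e := hc a ha e he
      have h4 : Commute d b := (hc b hb d hd).symm
      exact ((h1.mul_right h3).mul_left (h4.mul_right h2)).eq
    have hcyc : zpowers a = (P0 : Subgroup H) := by
      by_contra hne
      have hKle : zpowers a ≤ (P0 : Subgroup H) := zpowers_le.2 ha
      have hKn : (zpowers a ⊔ D).Normal := normal_of_commutator_le le_sup_right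
      have hKne : zpowers a ⊔ D ≠ ⊤ := by
        intro e
        refine hne (le_antisymm hKle fun p hp => ?_)
        obtain ⟨k, hk, d, hd, rfl⟩ := mem_sup_of_normal_right.1 (e ▸ mem_top p : p ∈ zpowers a ⊔ D)
        have hd' : d ∈ (P0 : Subgroup H) := by
          simpa using mul_mem (inv_mem (hKle hk)) hp
        rw [hint d hd' hd, mul_one]
        exact hk
      exact had (ab_of_normal (sn_sub h H) hKn hKne a (mem_sup_left (mem_zpowers a)) d₀
        (mem_sup_right hd₀))
    -- conjugation by `n` fixes `⟨x⟩`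
    haveI : IsCyclic (P : Subgroup G) := by
      refine ⟨⟨⟨(a : G), (hmem0 a).1 ha⟩, fun z => ?_⟩⟩
      obtain ⟨i, hi⟩ := mem_zpowers_iff.1
        (hcyc.symm ▸ (hmem0 ⟨z, hPH z.2⟩).2 z.2 : (⟨z, hPH z.2⟩ : H) ∈ zpowers a)
      exact ⟨i, Subtype.ext (congrArg Subtype.val hi :)⟩
    have hy : n * x * n⁻¹ ∈ (P : Subgroup G) := (mem_normalizer_iff.1 hn x).1 hxP
    have hxy : x ∈ zpowers (n * x * n⁻¹) := by
      haveI := Fintype.ofFinite (P : Subgroup G)
      have ho : orderOf (n * x * n⁻¹) = r := by rw [← hx]; exact (MulAut.conj n).orderOf_eq x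
      set T : Finset (P : Subgroup G) := Finset.univ.filter fun z => z ^ r = 1 with hT
      have hT' : T.card ≤ r := IsCyclic.card_pow_eq_one_le (Fact.out : r.Prime).pos
      let y : (P : Subgroup G) := ⟨n * x * n⁻¹, hy⟩
      have hoy : orderOf y = r := (Subgroup.orderOf_coe y).symm.trans ho
      set U : Finset (P : Subgroup G) := Finset.univ.filter fun z => z ∈ zpowers y with hU
      have hUT : U ⊆ T := fun z hz => by
        obtain ⟨i, rfl⟩ := mem_zpowers_iff.1 (Finset.mem_filter.1 hz).2
        refine Finset.mem_filter.2 ⟨Finset.mem_univ _, ?_⟩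
        rw [← zpow_natCast, zpow_comm, zpow_natCast, orderOf_dvd_iff_pow_eq_one.1 hoy.dvd, one_zpow]
      have hUc : U.card = r := by
        rw [hU, ← Fintype.card_subtype, ← Nat.card_eq_fintype_card]
        exact (Nat.card_zpowers y).trans hoy
      have heq := Finset.eq_of_subset_of_card_le hUT (hT'.trans hUc.ge)
      have hmem : (⟨x, hxP⟩ : (P : Subgroup G)) ∈ U := heq ▸ Finset.mem_filter.2
        ⟨Finset.mem_univ _, Subtype.ext (by
          rw [SubmonoidClass.coe_pow, OneMemClass.coe_one]; exact orderOf_dvd_iff_pow_eq_one.1 hx.dvd)⟩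
      obtain ⟨i, hi⟩ := mem_zpowers_iff.1 (Finset.mem_filter.1 hmem).2
      exact ⟨i, congrArg (fun z : (P : Subgroup G) => (z : G)) hi⟩
    refine hnx (mem_centralizer_singleton_iff.1 (?_ : n ∈ H))
    rw [← h H hC]
    refine mem_normalizer_fintype fun c hc => ?_
    rw [SetLike.mem_coe, hH, mem_centralizer_singleton_iff]
    obtain ⟨i, hi⟩ := mem_zpowers_iff.1 hxy
    have hc' : Commute (n * c * n⁻¹) (n * x * n⁻¹) :=
      (Commute.conj_iff n).2 (mem_centralizer_singleton_iff.1 hc)
    rw [← hi]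
    exact (hc'.zpow_right i).eq
  · -- the Sylow subgroup is normal in the centralizer
    have hA : ((P0 : Subgroup H) ⊔ D).Normal := normal_of_commutator_le le_sup_right
    have hAab := ab_of_normal (sn_sub h H) hA hcase
    have hHN : H ≤ normalizer (P : Set G) := by
      intro g hg
      refine mem_normalizer_fintype fun p hp => ?_
      have hp0 : (⟨p, hPH hp⟩ : H) ∈ (P0 : Subgroup H) := (hmem0 _).2 hp
      have hpA := hA.conj_mem _ (mem_sup_left hp0 : (⟨p, hPH hp⟩ : H) ∈ (P0 : Subgroup H) ⊔ D)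
        ⟨g, hg⟩
      set q : H := ⟨g, hg⟩ * ⟨p, hPH hp⟩ * ⟨g, hg⟩⁻¹ with hq
      have hqp : IsPGroup r (zpowers q) := by
        obtain ⟨k, hk⟩ := IsPGroup.iff_orderOf.1 P0.isPGroup' ⟨_, hp0⟩
        rw [Subgroup.orderOf_mk] at hk
        exact IsPGroup.of_card (n := k) (by
          rw [Nat.card_zpowers, hq, ← hk]
          exact (MulAut.conj (⟨g, hg⟩ : H)).orderOf_eq ⟨p, hPH hp⟩)
      have hle : zpowers q ≤ normalizer ((P0 : Subgroup H) : Set H) := by
        refine zpowers_le.2 (mem_normalizer_fintype fun c hc => ?_)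
        rw [SetLike.mem_coe, hAab q hpA c (mem_sup_left hc), mul_assoc, mul_inv_cancel, mul_one]
        exact hc
      have heq := P0.is_maximal' (P0.isPGroup'.to_sup_of_normal_left' hqp hle) le_sup_left
      exact (hmem0 q).1 (heq.le (mem_sup_right (mem_zpowers q)))
    set N := normalizer (P : Set G) with hN
    set PN : Sylow r N := P.subtype le_normalizer with hPN
    have hmemN : ∀ a : N, a ∈ (PN : Subgroup N) ↔ (a : G) ∈ (P : Subgroup G) := fun a => by
      rw [hPN, Sylow.coe_subtype, mem_subgroupOf]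
    have hPNab : Ab (PN : Subgroup N) := fun a ha b hb =>
      Subtype.ext (hPab a ((hmemN a).1 ha) b ((hmemN b).1 hb))
    have hNnab : ¬ Ab (⊤ : Subgroup N) := fun e => hC ((ab_top_iff.1 e).mono hHN)
    have hPNn : (PN : Subgroup N).Normal := by
      rw [hPN, Sylow.coe_subtype]
      exact normal_in_normalizer
    have hDN : Ab (commutator N) := by
      refine ab_commutator (sn_sub h N) hNnab hPNn (fun e => hx1 ?_) fun e => hNnab (e ▸ hPNab)
      exact congrArg (fun z : N => (z : G)) (mem_bot.1 (e ▸ (hmemN ⟨x, hHN hxH⟩).2 hxP : (⟨x, hHN hxH⟩ : N) ∈ (⊥ : Subgroup N)))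
    set x1 : N := ⟨x, hHN hxH⟩ with hx1'
    have hxPN : x1 ∈ (PN : Subgroup N) := (hmemN _).2 hxP
    by_cases hcase2 : (PN : Subgroup N) ⊔ commutator N = ⊤
    · refine hnx ?_
      have hfix : ∀ m : N, m * x1 = x1 * m := by
        intro m
        obtain ⟨p, hp, d, hd, rfl⟩ := mem_sup_of_normal_right.1
          (hcase2 ▸ mem_top m : m ∈ (PN : Subgroup N) ⊔ commutator N)
        have hz1 : ⁅d, x1⁆ ∈ (PN : Subgroup N) := by
          rw [commutatorElement_def]
          exact mul_mem (hPNn.conj_mem _ hxPN d) (inv_mem hxPN)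
        have hz2 : ⁅d, x1⁆ ∈ commutator N := commutator_mem_commutator (mem_top _) (mem_top _)
        have hz : ⁅d, x1⁆ = 1 := by
          refine eq_one_of_central PN hPNab hz1 (fun w _ => ?_) hz2
          have hle : (PN : Subgroup N) ⊔ commutator N ≤ centralizer ({⁅d, x1⁆} : Set N) :=
            sup_le (fun a ha => mem_centralizer_singleton_iff.2 (hPNab a ha _ hz1))
              (fun a ha => mem_centralizer_singleton_iff.2 (hDN a ha _ hz2))
          exact mem_centralizer_singleton_iff.1 (hle (hcase2 ▸ mem_top w))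
        exact (Commute.mul_left (hPNab p hp x1 hxPN) (commutatorElement_eq_one_iff_mul_comm.1 hz)).eq
      exact congrArg Subtype.val (hfix ⟨n, hn⟩)
    · refine hnx (mem_centralizer_singleton_iff.1 (?_ : n ∈ H))
      have hB : Ab ((PN : Subgroup N) ⊔ commutator N) :=
        ab_of_normal (sn_sub h N) (normal_of_commutator_le le_sup_right) hcase2
      have hsub : ∀ d ∈ commutator N, (d : G) ∈ H := fun d hd =>
        mem_centralizer_singleton_iff.2
          (congrArg Subtype.val (hB d (mem_sup_right hd) x1 (mem_sup_left hxPN)))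
      rw [← h H hC]
      refine mem_normalizer_fintype fun c hc => ?_
      rw [show n * c * n⁻¹ = ((⁅(⟨n, hn⟩ : N), ⟨c, hHN hc⟩⁆ : N) : G) * c by
        simp only [commutatorElement_def, Subgroup.coe_mul, InvMemClass.coe_inv]; group]
      exact mul_mem (hsub _ (commutator_mem_commutator (mem_top _) (mem_top _))) hc

theorem ab_centralizer [IsSimpleGroup G] (hna : ¬ Ab (⊤ : Subgroup G)) (h : SN G) {x : G}
    (hx : x ≠ 1) : Ab (centralizer ({x} : Set G)) := by
  obtain ⟨p, hp, hpd⟩ := Nat.exists_prime_and_dvd (mt orderOf_eq_one_iff.1 hx)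
  haveI := Fact.mk hp
  obtain ⟨q, hq⟩ := hpd
  have hq0 : q ≠ 0 := fun e => (orderOf_pos x).ne' (by rw [hq, e, mul_zero])
  have ho : orderOf (x ^ q) = p := by
    rw [orderOf_pow' x hq0, hq, Nat.gcd_mul_left_left, Nat.mul_div_cancel _ (Nat.pos_of_ne_zero hq0)]
  refine (ab_centralizer_prime hna h ho).mono fun c hc => mem_centralizer_singleton_iff.2 ?_
  exact (Commute.pow_right (mem_centralizer_singleton_iff.1 hc) q).eq

end Cfsg.Agent.SelfNorm
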