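import Cfsg.Agent.Lib.SelfNorm.Basic
import Cfsg.Agent.Lib.CASimple.Converse
import Mathlib.RingTheory.IntegralDomain

/-!
# Self-normalizing non-abelian subgroups in `SL(2, 2^n)`
-/

set_option autoImplicit false
set_option linter.style.haveILetI false
set_option linter.unusedSectionVars false

namespace Cfsg.Agent.SelfNorm

open Subgroup
open scoped commutatorElement

universe u

theorem sn_of_equiv {X : Type*} {Y : Type*} [Group X] [Group Y] (e : X ≃* Y) (h : SN X) : SN Y := by
  intro H hH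
  have hn := h (H.comap e.toMonoidHom) fun hc => hH fun a ha b hb => by
    have := congrArg e (hc (e.symm a) (by simpa using ha) (e.symm b) (by simpa using hb))
    simpa using this
  refine le_antisymm (fun g hg => ?_) le_normalizer
  have hmem : e.symm g ∈ normalizer ((H.comap e.toMonoidHom : Subgroup X) : Set X) := by
    refine mem_normalizer_iff.2 fun x => ?_
    rw [mem_comap, mem_comap, map_mul, map_mul, map_inv]
    simpa using mem_normalizer_iff.1 hg (e x)
  rw [hn] at hmem
  simpa using hmem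

section Abstract

variable {X : Type u} [Group X]

/-- Commuting is transitive on the non-identity elements. -/
def CTr (X : Type*) [Group X] : Prop :=
  ∀ x y z : X, x ≠ 1 → x * y = y * x → x * z = z * x → y * z = z * y

/-- The normalizer of a centralizer is generated by the centralizer and any element outside it. -/
def NormProp (X : Type u) [Group X] : Prop :=
  ∀ a : X, a ≠ 1 → ∀ g ∈ normalizer (centralizer ({a} : Set X) : Set X),
    ∀ h ∈ normalizer (centralizer ({a} : Set X) : Set X), h ∉ centralizer ({a} : Set X) →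
      ∃ k : ℤ, g * h ^ k ∈ centralizer ({a} : Set X)

theorem ab_cent (hc : CTr X) {a : X} (ha : a ≠ 1) :
    Ab (centralizer ({a} : Set X)) := fun x hx y hy =>
  hc a x y ha (mem_centralizer_singleton_iff.1 hx).symm (mem_centralizer_singleton_iff.1 hy).symm

theorem cent_eq (hc : CTr X) {a b : X} (ha : a ≠ 1) (hb1 : b ≠ 1)
    (hb : b ∈ centralizer ({a} : Set X)) :
    centralizer ({b} : Set X) = centralizer ({a} : Set X) := by
  have hab : a * b = b * a := (mem_centralizer_singleton_iff.1 hb).symm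
  ext g
  simp only [mem_centralizer_singleton_iff]
  exact ⟨fun hg => hc b g a hb1 hg.symm hab.symm, fun hg => hc a g b ha hg.symm hab⟩

variable [Finite X]

/-- An element of the normalizer of `C(a)` normalizing a non-abelian part lies in it. -/
theorem mem_of_normalize (hc : CTr X) (hp : NormProp X) {a : X} (ha : a ≠ 1)
    (K : Subgroup X) (hKN : K ≤ normalizer (centralizer ({a} : Set X) : Set X)) (hK : ¬ Ab K)
    {g : X} (hg : g ∈ normalizer (centralizer ({a} : Set X) : Set X))
    (hgK : g ∈ normalizer (K : Set X)) : g ∈ K := by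
  obtain ⟨h, hh, hhC⟩ : ∃ h ∈ K, h ∉ centralizer ({a} : Set X) := by
    by_contra hcon
    push Not at hcon
    exact hK ((ab_cent hc ha).mono hcon)
  obtain ⟨k, hk⟩ := hp a ha g hg h (hKN hh) hhC
  set M := centralizer ({a} : Set X) with hM
  set m := g * h ^ k with hm
  have hmK : m ∈ normalizer (K : Set X) := mul_mem hgK (zpow_mem (le_normalizer hh) k)
  suffices m ∈ K by simpa [hm] using mul_mem this (inv_mem (zpow_mem hh k))
  have hcm : ∀ x ∈ M, ⁅x, h⁆ ∈ M := by
    intro x hx
    rw [commutatorElement_def, show x * h * x⁻¹ * h⁻¹ = x * (h * x⁻¹ * h⁻¹) by group]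
    exact mul_mem hx ((mem_normalizer_iff.1 (hKN hh) x⁻¹).1 (inv_mem hx))
  have hinj : ∀ x ∈ M, ∀ y ∈ M, ⁅x, h⁆ = ⁅y, h⁆ → x = y := by
    intro x hx y hy he
    by_contra hne
    have hz : y⁻¹ * x ∈ M := mul_mem (inv_mem hy) hx
    have hz1 : y⁻¹ * x ≠ 1 := fun e => hne (inv_mul_eq_one.1 e).symm
    refine hhC ?_
    rw [hM, ← cent_eq hc ha hz1 hz, mem_centralizer_singleton_iff]
    simp only [commutatorElement_def] at he
    have he' : x * h * x⁻¹ = y * h * y⁻¹ := mul_right_cancel he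
    calc h * (y⁻¹ * x) = y⁻¹ * (y * h * y⁻¹) * x := by group
      _ = y⁻¹ * x * h := by rw [← he']; group
  let f : {x : X // x ∈ M ∧ x ∈ K} → {x : X // x ∈ M ∧ x ∈ K} := fun x =>
    ⟨⁅x.1, h⁆, hcm x.1 x.2.1, by
      rw [commutatorElement_def]
      exact mul_mem (mul_mem (mul_mem x.2.2 hh) (inv_mem x.2.2)) (inv_mem hh)⟩
  have hf : Function.Surjective f := Finite.injective_iff_surjective.1 fun x y hxy =>
    Subtype.ext (hinj x.1 x.2.1 y.1 y.2.1 (congrArg Subtype.val hxy))
  obtain ⟨x, hx⟩ := hf ⟨⁅m, h⁆, hcm m hk, by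
    rw [commutatorElement_def]
    exact mul_mem ((mem_normalizer_iff.1 hmK h).1 hh) (inv_mem hh)⟩
  exact (hinj m hk x.1 x.2.1 (congrArg Subtype.val hx).symm) ▸ x.2.2

/-- The abstract criterion. -/
theorem sn_of_ct (hc : CTr X) (hp : NormProp X) : SN X := by
  classical
  intro H hH
  -- some Sylow normalizer inside `H` is non-abelian
  obtain ⟨p, hpp, hpd, S, hS⟩ : ∃ (p : ℕ) (_ : Fact p.Prime) (_ : p ∣ Nat.card H)
      (S : Sylow p H), ¬ Ab (normalizer (S : Set H)) := by
    by_contra hcon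
    push Not at hcon
    refine hH fun a ha b hb => ?_
    by_contra hne
    set c : H := ⁅(⟨a, ha⟩ : H), ⟨b, hb⟩⁆ with hcdef
    have hc1 : c ≠ 1 := fun e => hne
      (congrArg Subtype.val (commutatorElement_eq_one_iff_mul_comm.1 e))
    obtain ⟨q, hq, hqd⟩ := Nat.exists_prime_and_dvd (mt orderOf_eq_one_iff.1 hc1)
    haveI := Fact.mk hq
    obtain ⟨S⟩ : Nonempty (Sylow q H) := inferInstance
    have hab := hcon q inferInstance (hqd.trans (orderOf_dvd_natCard c)) S
    have hle : normalizer (S : Set H) ≤ centralizer (S : Set H) := fun n hn s hs =>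
      hab s (le_normalizer hs) n hn
    haveI : IsMulCommutative (S : Subgroup H) := ab_iff.1 (hab.mono le_normalizer)
    have hker : c ∈ (MonoidHom.transferSylow S hle).ker := by
      rw [MonoidHom.mem_ker, hcdef, map_commutatorElement, commutatorElement_eq_one_iff_mul_comm]
      exact Subtype.ext (congrArg Subtype.val (IsMulCommutative.is_comm.comm _ _))
    exact MonoidHom.not_dvd_card_ker_transferSylow S hle
      (hqd.trans (Subgroup.orderOf_dvd_natCard _ hker))
  haveI := hpp
  set N0 : Subgroup X := (normalizer (S : Set H)).map H.subtype with hN0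
  have hN0ab : ¬ Ab N0 := fun e => hS (ab_of_map H.subtype_injective e)
  obtain ⟨⟨s, hsS⟩, hs1⟩ : ∃ s : (S : Subgroup H), s ≠ 1 := by
    haveI : Nontrivial (S : Subgroup H) :=
      (Subgroup.nontrivial_iff_ne_bot _).2 (S.ne_bot_of_dvd_card hpd)
    exact exists_ne 1
  have hsX : (s : X) ≠ 1 := fun e => hs1 (Subtype.ext (Subtype.ext e))
  have hSab : ∀ u : H, u ∈ (S : Subgroup H) → Commute (u : X) (s : X) := by
    haveI : Nontrivial (S : Subgroup H) := ⟨⟨⟨s, hsS⟩, 1, hs1⟩⟩
    haveI := S.isPGroup'.center_nontrivial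
    obtain ⟨z, hz⟩ := exists_ne (1 : center (S : Subgroup H))
    have hz1 : ((z : (S : Subgroup H)) : H) ≠ 1 := fun e => hz (Subtype.ext (Subtype.ext e))
    have hz2 : (((z : (S : Subgroup H)) : H) : X) ≠ 1 := fun e => hz1 (Subtype.ext e)
    intro u hu
    have hc1 : ∀ w : H, w ∈ (S : Subgroup H) →
        (((z : (S : Subgroup H)) : H) : X) * w = w * (((z : (S : Subgroup H)) : H) : X) :=
      fun w hw => by
        have := (Subgroup.mem_center_iff.1 z.2 ⟨w, hw⟩).symm
        exact congrArg (fun v : (S : Subgroup H) => ((v : H) : X)) this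
    exact hc _ _ _ hz2 (hc1 u hu) (hc1 s hsS)
  set M := centralizer ({(s : X)} : Set X) with hM
  have hBN : ∀ n : H, n ∈ normalizer (S : Set H) → (n : X) ∈ normalizer (M : Set X) ∧
      ((n : X) * s * (n : X)⁻¹) ∈ M := by
    intro n hn
    have hns : n * s * n⁻¹ ∈ (S : Subgroup H) := (mem_normalizer_iff.1 hn s).1 hsS
    have h1 : ((n : X) * s * (n : X)⁻¹) ∈ M :=
      mem_centralizer_singleton_iff.2 (hSab _ hns).eq
    refine ⟨mem_normalizer_fintype fun x hx => ?_, h1⟩
    have h2 : n * s * n⁻¹ ≠ 1 := fun e => hs1 (Subtype.ext (conj_eq_one_iff.1 e))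
    rw [SetLike.mem_coe, hM, ← cent_eq hc hsX (fun e => h2 (Subtype.ext e)) h1,
      mem_centralizer_singleton_iff]
    exact ((Commute.conj_iff (n : X)).2 (mem_centralizer_singleton_iff.1 hx)).eq
  refine le_antisymm (fun k hk => ?_) le_normalizer
  -- move `k` into the normalizer of `S`
  let φ : H ≃* H :=
    { toFun := fun x => ⟨k * x * k⁻¹, (mem_normalizer_iff.1 hk x).1 x.2⟩
      invFun := fun x => ⟨k⁻¹ * x * k, (mem_normalizer_iff''.1 hk x).1 x.2⟩
      left_inv := fun x => Subtype.ext (by simp [mul_assoc])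
      right_inv := fun x => Subtype.ext (by simp [mul_assoc])
      map_mul' := fun x y => Subtype.ext (by simp [mul_assoc]) }
  set T : Subgroup H := (S : Subgroup H).map φ.toMonoidHom with hT
  have hTc : Nat.card T = Nat.card (S : Subgroup H) :=
    Nat.card_congr (equivMapOfInjective _ _ φ.injective).toEquiv.symm
  let T' : Sylow p H := Sylow.ofCard T (hTc.trans S.card_eq_multiplicity)
  obtain ⟨c, hc'⟩ := MulAction.exists_smul_eq H T' S
  set g : X := (c : X) * k with hg
  have hgK : ∀ x : H, x ∈ (S : Subgroup H) → ∃ y ∈ (S : Subgroup H), g * x * g⁻¹ = y := by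
    intro x hx
    refine ⟨c * φ x * c⁻¹, ?_, ?_⟩
    · rw [← hc', Sylow.coe_subgroup_smul]
      exact ⟨φ x, ⟨x, hx, rfl⟩, rfl⟩
    · show g * x * g⁻¹ = (c : X) * (k * x * k⁻¹) * (c : X)⁻¹
      rw [hg]; group
  have hgN : g ∈ normalizer (H : Set X) := mul_mem (le_normalizer c.2) hk
  have hgB : g ∈ normalizer (M : Set X) := by
    obtain ⟨y, hy, hye⟩ := hgK s hsS
    refine mem_normalizer_fintype fun x hx => ?_
    have hy1 : (y : X) ≠ 1 := fun e => hsX (conj_eq_one_iff.1 (hye.trans e))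
    have hyM : (y : X) ∈ M := mem_centralizer_singleton_iff.2 (hSab y hy).eq
    rw [SetLike.mem_coe, hM, ← cent_eq hc hsX hy1 hyM, ← hye, mem_centralizer_singleton_iff]
    exact ((Commute.conj_iff g).2 (mem_centralizer_singleton_iff.1 hx)).eq
  have hN0B : N0 ≤ normalizer (M : Set X) := by
    rintro _ ⟨n, hn, rfl⟩
    exact (hBN n hn).1
  set K := H ⊓ normalizer (M : Set X) with hK
  have hKab : ¬ Ab K := fun e => hN0ab (e.mono (le_inf (map_subtype_le _) hN0B))
  have hgK' : g ∈ normalizer (K : Set X) := by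
    refine mem_normalizer_fintype fun x hx => mem_inf.2 ⟨?_, ?_⟩
    · exact (mem_normalizer_iff.1 hgN x).1 (mem_inf.1 hx).1
    · exact mul_mem (mul_mem hgB (mem_inf.1 hx).2) (inv_mem hgB)
  have := (mem_of_normalize hc hp hsX K inf_le_right hKab hgB hgK').1
  simpa [hg] using mul_mem (inv_mem c.2) this

end Abstract

section Matrices

open Matrix TwoByTwo

variable {F : Type*} [Field F] [CharP F 2]

theorem sl_mul (x y : SpecialLinearGroup (Fin 2) F) : (x * y).1 = x.1 * y.1 := rfl

theorem sl_one : (1 : SpecialLinearGroup (Fin 2) F).1 = 1 := rfl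

theorem sl_not_scalar {a : SpecialLinearGroup (Fin 2) F} (ha : a ≠ 1) : ¬ IsScalar a.1 := by
  intro hs
  apply ha
  have hd : a.1 0 0 * a.1 1 1 - a.1 0 1 * a.1 1 0 = 1 := by rw [← Matrix.det_fin_two]; exact a.2
  rw [hs.1, hs.2.1, ← hs.2.2] at hd
  haveI : Fact (Nat.Prime 2) := ⟨Nat.prime_two⟩
  have h1 : (a.1 0 0 - 1) ^ 2 = 0 := by
    rw [sub_pow_char, one_pow, sub_eq_zero, sq]
    simpa using hd
  have h2 : a.1 0 0 = 1 := sub_eq_zero.1 (pow_eq_zero_iff two_ne_zero |>.1 h1)
  apply Subtype.ext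
  rw [TwoByTwo.isScalar_iff.1 hs, h2, one_smul]
  rfl

theorem sl_ct : CTr (SpecialLinearGroup (Fin 2) F) := by
  intro a b c ha hab hac
  obtain ⟨r, s, hb⟩ := TwoByTwo.commute_eq (sl_not_scalar ha) (congrArg Subtype.val hab)
  obtain ⟨r', s', hc⟩ := TwoByTwo.commute_eq (sl_not_scalar ha) (congrArg Subtype.val hac)
  apply Subtype.ext
  show b.1 * c.1 = c.1 * b.1
  rw [hb, hc, add_mul, mul_add, mul_add, add_mul, mul_add, mul_add]
  simp only [smul_mul_assoc, mul_smul_comm, one_mul, mul_one, smul_smul, mul_comm r, mul_comm s]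
  abel

/-- What conjugation inside the normalizer of a centralizer can do to the generator. -/
theorem conj_shape {a g : SpecialLinearGroup (Fin 2) F} (ha : a ≠ 1)
    (hg : g ∈ normalizer (centralizer ({a} : Set (SpecialLinearGroup (Fin 2) F)) : Set _)) :
    ∃ α β : F, (g * a * g⁻¹).1 = α • 1 + β • a.1 ∧ β * a.1.trace = a.1.trace ∧
      α ^ 2 + α * β * a.1.trace + β ^ 2 = 1 := by
  have hmem := (mem_normalizer_iff.1 hg a).1 (mem_centralizer_singleton_iff.2 rfl)
  obtain ⟨α, β, he⟩ := TwoByTwo.commute_eq (sl_not_scalar ha)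
    (congrArg Subtype.val (mem_centralizer_singleton_iff.1 hmem).symm)
  refine ⟨α, β, he, ?_, ?_⟩
  · have h1 : (g * a * g⁻¹).1.trace = a.1.trace := by
      rw [sl_mul, Matrix.trace_mul_comm, sl_mul,
        ← Matrix.mul_assoc, ← sl_mul, inv_mul_cancel,
        sl_one, Matrix.one_mul]
    rw [he, Matrix.trace_add, Matrix.trace_smul, Matrix.trace_smul, Matrix.trace_one,
      Fintype.card_fin, Nat.cast_ofNat, CharTwo.two_eq_zero, smul_zero, zero_add, smul_eq_mul] at h1
    exact h1
  · have h1 := (g * a * g⁻¹).2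
    rw [he, TwoByTwo.det_lin, a.2, mul_one] at h1
    exact h1

theorem normProp_sl [Fintype F] (hq : (Fintype.card F - 1).Prime) :
    NormProp (SpecialLinearGroup (Fin 2) F) := by
  classical
  intro a ha g hg h hh hhC
  set N := normalizer (centralizer ({a} : Set (SpecialLinearGroup (Fin 2) F)) :
    Set (SpecialLinearGroup (Fin 2) F)) with hN
  have hns := sl_not_scalar ha
  by_cases htr : a.1.trace = 0
  · -- a unipotent element: the normalizer acts by multiplication on `a + 1`
    have hA : a.1 + 1 ≠ 0 := by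
      intro e
      refine hns (TwoByTwo.isScalar_iff.2 ?_)
      have : a.1 = -1 := eq_neg_of_add_eq_zero_left e
      rw [this]; simp [neg_one_smul]
    have hshape : ∀ n : N, ∃ β : F, (n : SpecialLinearGroup (Fin 2) F).1 * (a.1 + 1) *
        ((n : SpecialLinearGroup (Fin 2) F)⁻¹).1 = β • (a.1 + 1) := by
      intro n
      obtain ⟨α, β, he, -, hd⟩ := conj_shape ha n.2
      refine ⟨β, ?_⟩
      rw [htr, mul_zero, add_zero] at hd
      have hab : α + β = 1 := by
        haveI : Fact (Nat.Prime 2) := ⟨Nat.prime_two⟩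
        have : (α + β - 1) ^ 2 = 0 := by rw [sub_pow_char, add_pow_char, hd, one_pow, sub_self]
        exact sub_eq_zero.1 ((pow_eq_zero_iff two_ne_zero).1 this)
      have hαβ : α + 1 = β := by
        rw [← hab, ← add_assoc, CharTwo.add_self_eq_zero, zero_add]
      rw [mul_add, add_mul, mul_one, ← sl_mul, ← sl_mul,
        ← sl_mul, mul_inv_cancel, he, sl_one, smul_add,
        ← hαβ, add_comm]
      simp only [add_smul, one_smul]
      abel
    choose β hβ using hshape
    have huniq : ∀ {x y : F}, x • (a.1 + 1) = y • (a.1 + 1) → x = y :=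
      fun {x y} e => smul_left_injective F hA e
    have hmul : ∀ m n : N, β (m * n) = β m * β n := by
      intro m n
      refine huniq ?_
      rw [← hβ (m * n), Subgroup.coe_mul, _root_.mul_inv_rev, sl_mul,
        sl_mul, mul_smul]
      conv_rhs => rw [smul_comm, ← hβ m, ← Matrix.smul_mul, ← Matrix.mul_smul, ← hβ n]
      simp only [Matrix.mul_assoc]
    have hone : β 1 = 1 := by
      refine huniq ?_
      rw [← hβ 1, one_smul, Subgroup.coe_one, inv_one, sl_one, Matrix.one_mul,
        Matrix.mul_one]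
    let ψ : N →* Fˣ :=
      { toFun := fun n => ⟨β n, β n⁻¹, by rw [← hmul, mul_inv_cancel, hone],
          by rw [← hmul, inv_mul_cancel, hone]⟩
        map_one' := Units.ext hone
        map_mul' := fun m n => Units.ext (hmul m n) }
    have hker : ∀ n : N, ψ n = 1 →
        (n : SpecialLinearGroup (Fin 2) F) ∈ centralizer ({a} : Set _) := by
      intro n hn
      have h1 : β n = 1 := congrArg Units.val hn
      have h2 := hβ n
      rw [h1, one_smul, mul_add, add_mul, mul_one, ← sl_mul,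
        ← sl_mul, ← sl_mul, mul_inv_cancel,
        sl_one, add_left_inj] at h2
      have h3 : (n : SpecialLinearGroup (Fin 2) F) * a * (n : SpecialLinearGroup (Fin 2) F)⁻¹ = a :=
        Subtype.ext h2
      exact mem_centralizer_singleton_iff.2 (mul_inv_eq_iff_eq_mul.1 h3)
    haveI : Fact (Nat.card Fˣ).Prime :=
      ⟨by rw [Nat.card_eq_fintype_card, Fintype.card_units]; exact hq⟩
    have hψ : ψ ⟨h, hh⟩ ≠ 1 := fun e => hhC (hker ⟨h, hh⟩ e)
    have htop := (zpowers (ψ ⟨h, hh⟩)).eq_bot_or_eq_top_of_prime_card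
    rcases htop with e | e
    · exact absurd (zpowers_eq_bot.1 e) hψ
    · obtain ⟨i, hi⟩ := mem_zpowers_iff.1 (e ▸ mem_top (ψ ⟨g, hg⟩)⁻¹ :
        (ψ ⟨g, hg⟩)⁻¹ ∈ zpowers (ψ ⟨h, hh⟩))
      refine ⟨i, ?_⟩
      have := hker (⟨g, hg⟩ * ⟨h, hh⟩ ^ i) (by rw [map_mul, map_zpow, hi, mul_inv_cancel])
      simpa using this
  · -- a semisimple element: the normalizer can only invert it
    have hinv : ∀ n : SpecialLinearGroup (Fin 2) F, n ∈ N → n ∉ centralizer ({a} : Set _) →
        ∃ b : Matrix (Fin 2) (Fin 2) F, b = a.1.trace • 1 + a.1 ∧ (n * a * n⁻¹).1 = b := by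
      intro n hn hnC
      obtain ⟨α, β, he, ht, hd⟩ := conj_shape ha hn
      have hβ : β = 1 := mul_right_cancel₀ htr (ht.trans (one_mul _).symm)
      subst hβ
      rw [mul_one, one_pow, add_eq_right, sq, ← mul_add, mul_eq_zero] at hd
      rcases hd with h0 | h0
      · refine absurd (mem_centralizer_singleton_iff.2 ?_) hnC
        rw [h0, zero_smul, zero_add, one_smul] at he
        exact mul_inv_eq_iff_eq_mul.1 (Subtype.ext he)
      · refine ⟨_, rfl, ?_⟩
        rw [he, one_smul, show α = a.1.trace from CharTwo.add_eq_zero.1 h0]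
    by_cases hgC : g ∈ centralizer ({a} : Set (SpecialLinearGroup (Fin 2) F))
    · exact ⟨0, by rwa [zpow_zero, mul_one]⟩
    refine ⟨-1, ?_⟩
    rw [_root_.zpow_neg_one, mem_centralizer_singleton_iff]
    obtain ⟨b, hb, hgb⟩ := hinv g hg hgC
    obtain ⟨b', hb', hhb⟩ := hinv h hh hhC
    have h1 : g * a * g⁻¹ = h * a * h⁻¹ := Subtype.ext (by rw [hgb, hhb, hb, hb'])
    obtain ⟨b'', hb'', hib⟩ := hinv h⁻¹ (inv_mem hh) fun e => hhC (inv_mem_iff.1 e)
    have h2 : h⁻¹ * a * h = h * a * h⁻¹ :=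
      Subtype.ext (by rw [hhb, hb', ← hb'', ← hib, inv_inv])
    calc g * h⁻¹ * a = g * (h⁻¹ * a * h) * h⁻¹ := by group
      _ = g * (g * a * g⁻¹) * h⁻¹ := by rw [h2, ← h1]
      _ = a * (g * h⁻¹) := by
        have h3 : g * (g * a * g⁻¹) * g⁻¹ = a := by
          obtain ⟨c, hc, hgc⟩ := hinv g⁻¹ (inv_mem hg) fun e => hgC (inv_mem_iff.1 e)
          have : g⁻¹ * a * g = g * a * g⁻¹ :=
            Subtype.ext (by rw [hgb, hb, ← hc, ← hgc, inv_inv])
          rw [← this]; group
        calc g * (g * a * g⁻¹) * h⁻¹ = g * (g * a * g⁻¹) * g⁻¹ * (g * h⁻¹) := by group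
          _ = a * (g * h⁻¹) := by rw [h3]

/-- `SL(2, 2^n)` with `2^n - 1` prime. -/
theorem sn_sl [Fintype F] (hq : (Fintype.card F - 1).Prime) :
    SN (SpecialLinearGroup (Fin 2) F) :=
  sn_of_ct sl_ct (normProp_sl hq)

/-- Conversely, the property forces `2^n - 1` to be prime. -/
theorem prime_of_sn [Fintype F] (h4 : 4 ≤ Fintype.card F) (h : SN (SpecialLinearGroup (Fin 2) F)) :
    (Fintype.card F - 1).Prime := by
  classical
  by_contra hnp
  obtain ⟨d, hd, hd2, hdlt⟩ := Nat.exists_dvd_of_not_prime2 (by omega) hnp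
  obtain ⟨w, hw⟩ := IsCyclic.exists_ofOrder_eq_natCard (α := Fˣ)
  have hu : Nat.card Fˣ = Fintype.card F - 1 := by
    rw [Nat.card_eq_fintype_card, Fintype.card_units]
  obtain ⟨D, hDcard⟩ : ∃ D : Subgroup Fˣ, Nat.card D = d := by
    obtain ⟨e, he⟩ := hd
    refine ⟨zpowers (w ^ e), ?_⟩
    have he0 : e ≠ 0 := fun e0 => by rw [e0, mul_zero] at he; omega
    rw [Nat.card_zpowers, orderOf_pow' w he0, hw, hu, he, Nat.gcd_mul_left_left,
      Nat.mul_div_cancel _ (Nat.pos_of_ne_zero he0)]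
  obtain ⟨c, hc⟩ : ∃ c : Fˣ, c ∉ D := by
    by_contra hcon
    push Not at hcon
    rw [(Subgroup.eq_top_iff' D).2 hcon, Subgroup.card_top, hu] at hDcard
    omega
  obtain ⟨⟨a, haD⟩, ha1⟩ : ∃ a : D, a ≠ 1 := by
    haveI : Nontrivial D := Finite.one_lt_card_iff_nontrivial.1 (by omega)
    exact exists_ne 1
  let mat : Fˣ → F → SpecialLinearGroup (Fin 2) F := fun u b =>
    ⟨!![(u : F), b; 0, ((u⁻¹ : Fˣ) : F)], by simp [Matrix.det_fin_two]⟩
  have hmul : ∀ u v : Fˣ, ∀ b b' : F,
      mat u b * mat v b' = mat (u * v) ((u : F) * b' + b * ((v⁻¹ : Fˣ) : F)) := by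
    intro u v b b'
    apply Subtype.ext
    show !![(u : F), b; 0, ((u⁻¹ : Fˣ) : F)] * !![(v : F), b'; 0, ((v⁻¹ : Fˣ) : F)] = _
    ext i j
    fin_cases i <;> fin_cases j <;> simp [mat, Matrix.mul_apply, Fin.sum_univ_two, mul_comm]
  have hinv : ∀ u : Fˣ, ∀ b : F, (mat u b)⁻¹ = mat u⁻¹ (-b) := fun u b => by
    apply inv_eq_of_mul_eq_one_right
    rw [hmul]
    apply Subtype.ext
    ext i j
    fin_cases i <;> fin_cases j <;> simp [mat, mul_comm]
  let H : Subgroup (SpecialLinearGroup (Fin 2) F) :=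
    { carrier := {m | ∃ u ∈ D, ∃ b : F, m = mat u b}
      one_mem' := ⟨1, one_mem D, 0, by
        apply Subtype.ext; ext i j; fin_cases i <;> fin_cases j <;> simp [mat]⟩
      mul_mem' := by
        rintro _ _ ⟨u, hu, b, rfl⟩ ⟨v, hv, b', rfl⟩
        exact ⟨_, mul_mem hu hv, _, hmul u v b b'⟩
      inv_mem' := by
        rintro _ ⟨u, hu, b, rfl⟩
        exact ⟨_, inv_mem hu, _, hinv u b⟩ }
  have hH : ¬ Ab H := by
    intro hab
    have := hab (mat a 0) ⟨a, haD, 0, rfl⟩ (mat 1 1) ⟨1, one_mem D, 1, rfl⟩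
    rw [hmul, hmul] at this
    have h01 := congrFun (congrFun (congrArg Subtype.val this) 0) 1
    simp [mat] at h01
    apply ha1
    have hsq : (a : F) * a = 1 := by
      have := congrArg (fun t => (a : F) * t) h01
      simpa using this
    haveI : Fact (Nat.Prime 2) := ⟨Nat.prime_two⟩
    have h0 : ((a : F) - 1) ^ 2 = 0 := by rw [sub_pow_char, one_pow, sq, hsq, sub_self]
    exact Subtype.ext (Units.ext (sub_eq_zero.1 ((pow_eq_zero_iff two_ne_zero).1 h0)))
  have hg : mat c 0 ∈ normalizer (H : Set (SpecialLinearGroup (Fin 2) F)) := by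
    refine mem_normalizer_fintype ?_
    rintro _ ⟨u, hu, b, rfl⟩
    rw [hinv, hmul, hmul]
    exact ⟨_, by rwa [mul_comm c u, mul_assoc, mul_inv_cancel, mul_one], _, rfl⟩
  rw [h H hH] at hg
  obtain ⟨u, hu', b, he⟩ := hg
  refine hc ?_
  have h00 := congrFun (congrFun (congrArg Subtype.val he) 0) 0
  simp [mat] at h00
  rwa [Units.ext h00]

theorem sl_center_eq_bot : center (SpecialLinearGroup (Fin 2) F) = ⊥ := by
  rw [eq_bot_iff]
  intro z hz
  by_contra hz1
  obtain ⟨r, -, hr⟩ := Matrix.SpecialLinearGroup.mem_center_iff.1 hz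
  refine sl_not_scalar (fun e => hz1 (mem_bot.2 e)) ?_
  rw [← hr]
  simp [TwoByTwo.IsScalar]

/-- `SL(2, F) ≅ PSL(2, F)` in characteristic two. -/
noncomputable def slEquiv : SpecialLinearGroup (Fin 2) F ≃* ProjectiveSpecialLinearGroup (Fin 2) F :=
  MulEquiv.ofBijective (QuotientGroup.mk' (center (SpecialLinearGroup (Fin 2) F)))
    ⟨by rw [← MonoidHom.ker_eq_bot_iff, QuotientGroup.ker_mk', sl_center_eq_bot],
      QuotientGroup.mk'_surjective _⟩

end Matrices

end Cfsg.Agent.SelfNorm
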